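import Cfsg.Agent.Lib.ModTI.Trace

/-!
# Faithful modular representations of groups with a cyclic T.I. Sylow subgroup
-/

set_option autoImplicit false

namespace Cfsg.Agent.Lib.ModTI.Cyclic

open scoped BigOperators Polynomial Pointwise
open Finset Cfsg.Agent.Lib.ModTI.Trace

section Alg

/-- In characteristic `p`, `∑_{i<q} T^i = (T-1)^{q-1}` for `q = p^n`. -/
theorem geom_sum_eq_pow_sub_one {F A : Type*} [Field F] [Ring A] [Algebra F A] (p n : ℕ)
    [Fact p.Prime] [CharP F p] (T : A) :
    ∑ i ∈ range (p ^ n), T ^ i = (T - 1) ^ (p ^ n - 1) := by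
  have hq : 0 < p ^ n := pow_pos (Fact.out : p.Prime).pos n
  have h1 : ∑ i ∈ range (p ^ n), (Polynomial.X : F[X]) ^ i =
      ((Polynomial.X : F[X]) - 1) ^ (p ^ n - 1) := by
    have h2 : ((Polynomial.X : F[X]) - 1) ≠ 0 := by
      have := Polynomial.X_sub_C_ne_zero (1 : F)
      simpa using this
    apply mul_left_cancel₀ h2
    rw [mul_comm, geom_sum_mul, ← pow_succ', Nat.sub_add_cancel hq, sub_pow_char_pow, one_pow]
  have h3 := congrArg (Polynomial.aeval T) h1
  simpa [map_sum] using h3

/-- The vanishing of a power of `a` times a power of `a (1 + b) + b`. -/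
theorem pow_mul_add_pow_eq_zero {A : Type*} [Ring A] (a b : A) (hab : Commute a b) (ℓ m n : ℕ)
    (ha : a ^ ℓ = 0) (hb : b ^ ℓ = 0) (hm : 2 * ℓ ≤ m + n + 1) :
    a ^ m * (a * (1 + b) + b) ^ n = 0 := by
  have h1 : Commute (a * (1 + b)) b :=
    Commute.mul_left hab ((Commute.one_left b).add_left (Commute.refl b))
  have h2 : Commute a (1 + b) := (Commute.one_right a).add_right hab
  rw [h1.add_pow, Finset.mul_sum]
  refine Finset.sum_eq_zero fun k hk => ?_
  have hk' : k ≤ n := Nat.lt_succ_iff.mp (Finset.mem_range.mp hk)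
  by_cases hc : ℓ ≤ n - k
  · rw [pow_eq_zero_of_le hc hb]
    simp
  · have h3 : ℓ ≤ m + k := by omega
    rw [h2.mul_pow]
    have h4 : a ^ m * (a ^ k * (1 + b) ^ k * b ^ (n - k)) =
        a ^ (m + k) * ((1 + b) ^ k * b ^ (n - k)) := by
      rw [pow_add]
      simp only [mul_assoc]
    rw [pow_eq_zero_of_le h3 ha, zero_mul] at h4
    rw [← mul_assoc (a ^ m), h4, zero_mul]

variable {F V : Type*} [Field F] [AddCommGroup V] [Module F V]

/-- The vanishing of `(X-1)^m` times a `⟨X⟩`-trace. -/
theorem pow_mul_trace_eq_zero (p n : ℕ) [Fact p.Prime] [CharP F p] (X Xi : Module.End F V)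
    (hX : X * Xi = 1) (hX' : Xi * X = 1) (ℓ m : ℕ) (hu : (X - 1) ^ ℓ = 0)
    (hm : 2 * ℓ ≤ m + p ^ n) (f : Module.End F V) :
    (X - 1) ^ m * ∑ i ∈ range (p ^ n), X ^ i * f * Xi ^ i = 0 := by
  classical
  have hq : 0 < p ^ n := pow_pos (Fact.out : p.Prime).pos n
  let a : Module.End F (Module.End F V) := LinearMap.mulLeft F (X - 1)
  let b : Module.End F (Module.End F V) := LinearMap.mulRight F (Xi - 1)
  let T : Module.End F (Module.End F V) := (1 + a) * (1 + b)
  have hab : Commute a b := LinearMap.commute_mulLeft_right _ _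
  have hTg : ∀ g, T g = X * g * Xi := by
    intro g
    change (1 + a) ((1 + b) g) = X * g * Xi
    simp only [LinearMap.add_apply, Module.End.one_apply, a, b, LinearMap.mulLeft_apply,
      LinearMap.mulRight_apply]
    noncomm_ring
  have hTi : ∀ (i : ℕ) (g : Module.End F V), (T ^ i) g = X ^ i * g * Xi ^ i := by
    intro i
    induction i with
    | zero => intro g; simp
    | succ i ih =>
      intro g
      rw [pow_succ', Module.End.mul_apply, ih, hTg, pow_succ', pow_succ]
      simp only [mul_assoc]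
  have haℓ : a ^ ℓ = 0 := by
    change (LinearMap.mulLeft F (X - 1)) ^ ℓ = 0
    rw [LinearMap.pow_mulLeft, hu, LinearMap.mulLeft_zero_eq_zero]
  have hbℓ : b ^ ℓ = 0 := by
    change (LinearMap.mulRight F (Xi - 1)) ^ ℓ = 0
    rw [LinearMap.pow_mulRight]
    have h1 : Xi - 1 = (-Xi) * (X - 1) := by
      rw [neg_mul, mul_sub, hX', mul_one]
      abel
    have h2 : Commute (-Xi) (X - 1) := by
      apply Commute.neg_left
      apply Commute.sub_right _ (Commute.one_right _)
      exact hX'.trans hX.symm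
    rw [h1, h2.mul_pow, hu, mul_zero, LinearMap.mulRight_zero_eq_zero]
  have hT1 : T - 1 = a * (1 + b) + b := by
    change (1 + a) * (1 + b) - 1 = _
    noncomm_ring
  have hmain := pow_mul_add_pow_eq_zero a b hab ℓ m (p ^ n - 1) haℓ hbℓ (by omega)
  rw [← hT1, ← geom_sum_eq_pow_sub_one (F := F) p n T] at hmain
  have h3 := congrArg (fun Z : Module.End F (Module.End F V) => Z f) hmain
  simp only [Module.End.mul_apply, LinearMap.zero_apply] at h3
  have h4 : (∑ i ∈ range (p ^ n), T ^ i) f = ∑ i ∈ range (p ^ n), X ^ i * f * Xi ^ i := by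
    rw [LinearMap.sum_apply]
    exact Finset.sum_congr rfl fun i _ => hTi i f
  rw [h4] at h3
  have h5 : ∀ g, (a ^ m) g = (X - 1) ^ m * g := by
    intro g
    change ((LinearMap.mulLeft F (X - 1)) ^ m) g = _
    rw [LinearMap.pow_mulLeft, LinearMap.mulLeft_apply]
  rw [h5] at h3
  exact h3

/-- A nilpotent endomorphism of a finite dimensional space has nilpotency index at most the
dimension. -/
theorem pow_finrank_eq_zero [FiniteDimensional F V] (u : Module.End F V) (hu : IsNilpotent u) :
    u ^ Module.finrank F V = 0 := by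
  have h := (LinearMap.isNilpotent_iff_charpoly u).mp hu
  have h2 := LinearMap.aeval_self_charpoly u
  rw [h] at h2
  simpa using h2

/-- Congruent factors give congruent products under an algebra homomorphism. -/
theorem aeval_prod_congr {A ι : Type*} [Ring A] [Algebra F A] (X : A) (s : Finset ι) (a b : ι → F[X])
    (h : ∀ i ∈ s, Polynomial.aeval X (a i) = Polynomial.aeval X (b i)) :
    Polynomial.aeval X (∏ i ∈ s, a i) = Polynomial.aeval X (∏ i ∈ s, b i) := by
  classical
  induction s using Finset.induction_on with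
  | empty => simp
  | insert i s hi ih =>
    rw [Finset.prod_insert hi, Finset.prod_insert hi, map_mul, map_mul,
      h i (Finset.mem_insert_self i s),
      ih fun j hj => h j (Finset.mem_insert_of_mem hj)]

end Alg

section Group

variable {G : Type*} [Group G] [Finite G] {p : ℕ} [Fact p.Prime]

/-- The automizer of a cyclic Sylow subgroup has order dividing `p - 1`. -/
theorem card_range_dvd (P : Sylow p G) (hcyc : IsCyclic P) (n : ℕ) (hn : 1 ≤ n)
    (hPn : Nat.card P = p ^ n) :
    Nat.card (P : Subgroup G).normalizerMonoidHom.range ∣ p - 1 := by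
  have hp : p.Prime := Fact.out
  have h1 : Nat.card (P : Subgroup G).normalizerMonoidHom.range ∣ p ^ (n - 1) * (p - 1) := by
    have h2 := Subgroup.card_subgroup_dvd_card (P : Subgroup G).normalizerMonoidHom.range
    haveI : IsCyclic (P : Subgroup G) := hcyc
    rw [IsCyclic.card_mulAut (P : Subgroup G)] at h2
    have h3 : Nat.card (P : Subgroup G) = p ^ n := hPn
    rw [h3, Nat.totient_prime_pow hp (by omega)] at h2
    exact h2
  have h2 : Nat.Coprime (Nat.card (P : Subgroup G).normalizerMonoidHom.range) p := by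
    rw [← Subgroup.index_ker]
    haveI : IsMulCommutative (P : Subgroup G) := by
      haveI : IsCyclic (P : Subgroup G) := hcyc
      exact IsCyclic.isMulCommutative
    have h3 : (P : Subgroup G).normalizerMonoidHom.ker.index ∣
        ((P : Subgroup G).subgroupOf (Subgroup.normalizer ((P : Subgroup G) : Set G))).index := by
      apply Subgroup.index_dvd_of_le
      rw [Subgroup.normalizerMonoidHom_ker]
      intro z hz
      rw [Subgroup.mem_subgroupOf] at hz ⊢
      exact (P : Subgroup G).le_centralizer hz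
    have h4 : ((P : Subgroup G).subgroupOf
        (Subgroup.normalizer ((P : Subgroup G) : Set G))).index ∣ (P : Subgroup G).index :=
      Subgroup.relIndex_dvd_index_of_le (P : Subgroup G).le_normalizer
    rw [Nat.coprime_comm, Nat.Prime.coprime_iff_not_dvd hp]
    intro h5
    exact P.not_dvd_index (h5.trans (h3.trans h4))
  exact (Nat.Coprime.pow_right (n - 1) h2).dvd_of_dvd_mul_left h1

/-- A `p`-element normalizing a Sylow subgroup lies in it. -/
theorem mem_of_mem_normalizer (P : Sylow p G) {u : G} {k : ℕ} (hu : u ^ p ^ k = 1)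
    (hn : u ∈ Subgroup.normalizer ((P : Subgroup G) : Set G)) : u ∈ (P : Subgroup G) := by
  have h0 : orderOf u ∣ p ^ k := orderOf_dvd_of_pow_eq_one hu
  obtain ⟨j, -, hj⟩ := (Nat.dvd_prime_pow (Fact.out : p.Prime)).mp h0
  have hP : IsPGroup p (Subgroup.zpowers u) := by
    rw [IsPGroup.iff_card]
    exact ⟨j, by rw [Nat.card_zpowers, hj]⟩
  have h1 := hP.inf_normalizer_sylow P
  have h2 : u ∈ Subgroup.zpowers u ⊓ (P : Subgroup G) := by
    rw [← h1]
    exact ⟨Subgroup.mem_zpowers u, hn⟩
  exact h2.2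

/-- The freeness of the action of a T.I. Sylow subgroup on the cosets of its normalizer. -/
theorem free_of_TI (P : Sylow p G)
    (hTI : ∀ g : G, g ∉ Subgroup.normalizer ((P : Subgroup G) : Set G) →
      (P : Subgroup G) ⊓ (MulAut.conj g • (P : Subgroup G)) = ⊥)
    (g : G) (hg : g ∉ Subgroup.normalizer ((P : Subgroup G) : Set G)) (h : G)
    (hh : h ∈ (P : Subgroup G)) (hn : g⁻¹ * h * g ∈ Subgroup.normalizer ((P : Subgroup G) : Set G)) :
    h = 1 := by
  have h1 : IsPGroup p (P : Subgroup G) := P.isPGroup'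
  obtain ⟨k, hk⟩ := h1 ⟨h, hh⟩
  have hk' : h ^ p ^ k = 1 := congrArg Subtype.val hk
  have h2 : (g⁻¹ * h * g) ^ p ^ k = 1 := by
    have h3 : g⁻¹ * h * g = g⁻¹ * h * g⁻¹⁻¹ := by simp
    rw [h3, conj_pow, hk']
    simp
  have h4 := mem_of_mem_normalizer P h2 hn
  have h5 : h ∈ (P : Subgroup G) ⊓ (MulAut.conj g • (P : Subgroup G)) := by
    refine Subgroup.mem_inf.mpr ⟨hh, ?_⟩
    rw [Subgroup.mem_smul_pointwise_iff_exists]
    refine ⟨_, h4, ?_⟩
    simp [MulAut.smul_def, mul_assoc]
  rw [hTI g hg] at h5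
  exact (Subgroup.mem_bot.mp h5)

end Group

end Cfsg.Agent.Lib.ModTI.Cyclic
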