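import Mathlib

/-!
# The relative trace for a trivial intersection subgroup

If `P ≤ N` acts freely on `G/N` away from the base point, the relative trace from `N` to `G` of an
`N`-invariant endomorphism `y` of a representation is `y` plus the `P`-trace of something.
-/

set_option autoImplicit false

namespace Cfsg.Agent.Lib.ModTI.Trace

open scoped BigOperators

/-- A sum over a free finite `P`-set of an equivariant function is a `P`-trace. -/
theorem exists_sum_eq_of_free {P X A : Type*} [Group P] [Fintype P] [MulAction P X] [Fintype X]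
    [AddCommMonoid A] (act : P → A →+ A) (φ : X → A) (hφ : ∀ (h : P) (x : X), φ (h • x) = act h (φ x))
    (hfree : ∀ (x : X) (h : P), h • x = x → h = 1) :
    ∃ a : A, ∑ x, φ x = ∑ h : P, act h a := by
  classical
  letI : Fintype (MulAction.orbitRel.Quotient P X) := Fintype.ofFinite _
  let f : P × MulAction.orbitRel.Quotient P X → X := fun z => z.1 • z.2.out
  have hf : Function.Bijective f := by
    constructor
    · rintro ⟨h₁, ω₁⟩ ⟨h₂, ω₂⟩ he
      have he' : h₁ • ω₁.out = h₂ • ω₂.out := he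
      have hω : ω₁ = ω₂ := by
        rw [← Quotient.out_eq ω₁, ← Quotient.out_eq ω₂]
        apply Quotient.sound
        change ω₁.out ∈ MulAction.orbit P ω₂.out
        refine ⟨h₁⁻¹ * h₂, ?_⟩
        change (h₁⁻¹ * h₂) • ω₂.out = ω₁.out
        rw [mul_smul, ← he', inv_smul_smul]
      subst hω
      have h3 : (h₂⁻¹ * h₁) • ω₁.out = ω₁.out := by
        rw [mul_smul, he', inv_smul_smul]
      have h4 := hfree _ _ h3
      have h5 : h₁ = h₂ := by
        rw [inv_mul_eq_one] at h4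
        exact h4.symm
      rw [h5]
    · intro x
      have h1 : Quotient.out (Quotient.mk (MulAction.orbitRel P X) x) ∈ MulAction.orbit P x :=
        Quotient.exact (Quotient.out_eq (Quotient.mk (MulAction.orbitRel P X) x))
      obtain ⟨h, hh⟩ := h1
      refine ⟨(h⁻¹, Quotient.mk (MulAction.orbitRel P X) x), ?_⟩
      change h⁻¹ • (Quotient.out (Quotient.mk (MulAction.orbitRel P X) x)) = x
      rw [← hh]
      change h⁻¹ • (h • x) = x
      rw [inv_smul_smul]
  refine ⟨∑ ω : MulAction.orbitRel.Quotient P X, φ ω.out, ?_⟩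
  rw [← Function.Bijective.sum_comp hf φ, Fintype.sum_prod_type]
  refine Finset.sum_congr rfl fun h _ => ?_
  rw [map_sum]
  refine Finset.sum_congr rfl fun ω _ => ?_
  exact hφ h ω.out

variable {G F V : Type*} [Group G] [Finite G] [Field F] [AddCommGroup V] [Module F V]

/-- The relative trace decomposition. -/
theorem exists_trace_decomp (ρ : Representation F G V) (P N : Subgroup G) [Fintype P] (hPN : P ≤ N)
    (hfree : ∀ g : G, g ∉ N → ∀ h ∈ P, g⁻¹ * h * g ∈ N → h = 1)
    (y : Module.End F V) (hy : ∀ n ∈ N, ρ n * y = y * ρ n) :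
    ∃ T f : Module.End F V, (∀ g : G, ρ g * T = T * ρ g) ∧
      T = y + ∑ h : P, ρ (h : G) * f * ρ ((h : G)⁻¹) := by
  classical
  letI : Fintype (G ⧸ N) := Fintype.ofFinite _
  -- the conjugate
  let c : G → Module.End F V := fun g => ρ g * y * ρ g⁻¹
  have hρ1 : ∀ g : G, ρ g * ρ g⁻¹ = 1 := fun g => by rw [← map_mul, mul_inv_cancel, map_one]
  have hρ2 : ∀ g : G, ρ g⁻¹ * ρ g = 1 := fun g => by rw [← map_mul, inv_mul_cancel, map_one]
  have hc : ∀ (g : G) (n : G), n ∈ N → c (g * n) = c g := by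
    intro g n hn
    change ρ (g * n) * y * ρ (g * n)⁻¹ = ρ g * y * ρ g⁻¹
    rw [mul_inv_rev, map_mul, map_mul]
    calc ρ g * ρ n * y * (ρ n⁻¹ * ρ g⁻¹) = ρ g * (ρ n * y) * (ρ n⁻¹ * ρ g⁻¹) := by
          simp only [mul_assoc]
      _ = ρ g * (y * ρ n) * (ρ n⁻¹ * ρ g⁻¹) := by rw [hy n hn]
      _ = ρ g * y * (ρ n * ρ n⁻¹) * ρ g⁻¹ := by simp only [mul_assoc]
      _ = ρ g * y * ρ g⁻¹ := by rw [hρ1, mul_one]
  -- the function on cosets
  let φ : G ⧸ N → Module.End F V := fun q => c q.out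
  have hφ : ∀ g : G, φ (g : G ⧸ N) = c g := by
    intro g
    have h1 : ((g : G ⧸ N).out)⁻¹ * g ∈ N := QuotientGroup.eq.mp (Quotient.out_eq (g : G ⧸ N))
    have h2 : g = (g : G ⧸ N).out * (((g : G ⧸ N).out)⁻¹ * g) := by group
    change c (g : G ⧸ N).out = c g
    conv_rhs => rw [h2]
    rw [hc _ _ h1]
  have hφs : ∀ (g : G) (q : G ⧸ N), φ (g • q) = ρ g * φ q * ρ g⁻¹ := by
    intro g q
    induction q using QuotientGroup.induction_on with
    | H z =>
      have h1 : g • (z : G ⧸ N) = ((g * z : G) : G ⧸ N) := rfl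
      rw [h1, hφ, hφ]
      change ρ (g * z) * y * ρ (g * z)⁻¹ = ρ g * (ρ z * y * ρ z⁻¹) * ρ g⁻¹
      rw [mul_inv_rev, map_mul, map_mul]
      simp only [mul_assoc]
  refine ⟨∑ q : G ⧸ N, φ q, ?_⟩
  -- the action of `P` on the non-base cosets
  let S : SubMulAction P (G ⧸ N) :=
    { carrier := {q | q ≠ ((1 : G) : G ⧸ N)}
      smul_mem' := by
        intro h q hq hq'
        apply hq
        have h1 : ((h : G) • q) = ((1 : G) : G ⧸ N) := hq'
        have h2 : q = (h : G)⁻¹ • ((1 : G) : G ⧸ N) := by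
          rw [← h1, inv_smul_smul]
        rw [h2]
        change (((h : G)⁻¹ * 1 : G) : G ⧸ N) = ((1 : G) : G ⧸ N)
        rw [QuotientGroup.eq]
        have : (h : G) ∈ N := hPN h.2
        simpa using this }
  letI : Fintype S := Fintype.ofFinite _
  let act : P → Module.End F V →+ Module.End F V := fun h =>
    { toFun := fun z => ρ (h : G) * z * ρ ((h : G)⁻¹)
      map_zero' := by simp
      map_add' := by intro a b; simp [mul_add, add_mul] }
  obtain ⟨f, hf⟩ := exists_sum_eq_of_free (P := P) (X := S) act (fun q => φ q.1)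
    (by
      intro h q
      exact hφs (h : G) q.1)
    (by
      intro q h hq
      have hq1 : q.1 ≠ ((1 : G) : G ⧸ N) := q.2
      have hq2 : (h : G) • q.1 = q.1 := congrArg Subtype.val hq
      have hq3 : ∃ g : G, (g : G ⧸ N) = q.1 := ⟨q.1.out, Quotient.out_eq _⟩
      obtain ⟨g, hg⟩ := hq3
      rw [← hg] at hq1 hq2
      have hgN : g ∉ N := by
        intro h'
        apply hq1
        rw [QuotientGroup.eq]
        simpa using h'
      have h3 : ((h * g : G) : G ⧸ N) = (g : G ⧸ N) := hq2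
      rw [QuotientGroup.eq] at h3
      have h4 : g⁻¹ * (h : G) * g ∈ N := by
        have := N.inv_mem h3
        simpa [mul_assoc] using this
      have := hfree g hgN h h.2 h4
      exact Subtype.ext this)
  refine ⟨f, ?_, ?_⟩
  · intro g
    have h1 : ρ g * (∑ q : G ⧸ N, φ q) * ρ g⁻¹ = ∑ q : G ⧸ N, φ q := by
      rw [Finset.mul_sum, Finset.sum_mul]
      have h2 : ∀ q : G ⧸ N, ρ g * φ q * ρ g⁻¹ = φ (g • q) := fun q => (hφs g q).symm
      simp only [h2]
      exact Equiv.sum_comp (MulAction.toPerm g) φ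
    calc ρ g * ∑ q : G ⧸ N, φ q = ρ g * (∑ q : G ⧸ N, φ q) * (ρ g⁻¹ * ρ g) := by
          rw [hρ2, mul_one]
      _ = (ρ g * (∑ q : G ⧸ N, φ q) * ρ g⁻¹) * ρ g := by simp only [mul_assoc]
      _ = (∑ q : G ⧸ N, φ q) * ρ g := by rw [h1]
  · have h1 : ∑ q : G ⧸ N, φ q = φ ((1 : G) : G ⧸ N) +
        ∑ q : {q : G ⧸ N // q ≠ ((1 : G) : G ⧸ N)}, φ q.1 :=
      Fintype.sum_eq_add_sum_subtype_ne φ _
    have h2 : φ ((1 : G) : G ⧸ N) = y := by
      rw [hφ]
      change ρ 1 * y * ρ 1⁻¹ = y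
      simp
    rw [h1, h2]
    congr 1
    have h3 : ∑ q : {q : G ⧸ N // q ≠ ((1 : G) : G ⧸ N)}, φ q.1 = ∑ x : S, φ x.1 := by
      let e : {q : G ⧸ N // q ≠ ((1 : G) : G ⧸ N)} ≃ S :=
        ⟨fun q => ⟨q.1, q.2⟩, fun x => ⟨x.1, x.2⟩, fun _ => rfl, fun _ => rfl⟩
      exact Fintype.sum_equiv e _ _ fun _ => rfl
    rw [h3, hf]
    rfl

end Cfsg.Agent.Lib.ModTI.Trace
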