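import Cfsg.Agent.Lib.ModTI.Trace
import Cfsg.Agent.Lib.PermMod.Basic

/-!
# Integral forms over a valuation subring of `ℂ`

A valuation subring `V` of `ℂ` with `p` in its maximal ideal serves as a replacement for `p`-adic
integers in modular reduction: every complex representation of a finite group has a basis in which
all the matrix entries lie in `V`.
-/

set_option autoImplicit false

namespace Cfsg.Agent.Lib.ModTI.Integral

open scoped BigOperators
open Module

/-- A valuation subring of `ℂ` in which the prime `p` is a non-unit. -/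
theorem exists_valuationSubring {p : ℕ} (hp : p.Prime) :
    ∃ V : ValuationSubring ℂ, (p : ℂ) ∈ V.nonunits := by
  let A : Subring ℂ := (Int.castRingHom ℂ).range
  let x : A := ⟨(p : ℂ), ⟨(p : ℤ), by simp⟩⟩
  have hI : Ideal.span {x} ≠ ⊤ := by
    intro h
    rw [Ideal.span_singleton_eq_top] at h
    obtain ⟨⟨y, ⟨m, hm⟩⟩, hy⟩ := h.exists_right_inv
    have h1 : (p : ℂ) * y = 1 := congrArg Subtype.val hy
    rw [← hm] at h1
    have h2 : ((p : ℤ) * m : ℤ) = 1 := by
      have : (((p : ℤ) * m : ℤ) : ℂ) = ((1 : ℤ) : ℂ) := by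
        push_cast
        simpa using h1
      exact_mod_cast this
    have h3 : (p : ℤ) ∣ 1 := ⟨m, h2.symm⟩
    have h4 : p ∣ 1 := by exact_mod_cast h3
    exact hp.one_lt.ne' (Nat.dvd_one.mp h4)
  obtain ⟨B, -, hB⟩ := Ideal.image_subset_nonunits_valuationSubring _ hI
  exact ⟨B, hB ⟨x, Ideal.mem_span_singleton_self x, rfl⟩⟩

variable (V : ValuationSubring ℂ)

/-- In a finite family not all zero there is an entry dividing all the others in `V`. -/
theorem exists_max_val {ι : Type*} [Finite ι] (a : ι → ℂ) (h : ∃ i, a i ≠ 0) :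
    ∃ k, a k ≠ 0 ∧ ∀ i, a i / a k ∈ V := by
  obtain ⟨i₀, hi₀⟩ := h
  haveI : Nonempty ι := ⟨i₀⟩
  obtain ⟨k, hk⟩ := Finite.exists_max (fun i => V.valuation (a i))
  have hk0 : a k ≠ 0 := by
    intro h0
    have h1 := hk i₀
    simp only [h0, map_zero, le_zero_iff, map_eq_zero] at h1
    exact hi₀ h1
  refine ⟨k, hk0, fun i => ?_⟩
  rw [← V.valuation_le_one_iff, map_div₀]
  have hpos : V.valuation (a k) ≠ 0 := (Valuation.ne_zero_iff _).mpr hk0
  exact div_le_one_of_le₀ (hk i) zero_le

section Basis

variable {G W : Type*} [Group G] [Finite G] [AddCommGroup W] [Module ℂ W]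
  [FiniteDimensional ℂ W] (ρ : Representation ℂ G W)

/-- The existence of a finite family generating a `ρ`-stable `V`-lattice. -/
private def Good (r : ℕ) : Prop :=
  ∃ f : Fin r → W, (∀ (g : G) (j : Fin r), ∃ c : Fin r → ℂ, (∀ i, c i ∈ V) ∧ ρ g (f j) = ∑ i, c i • f i) ∧
    Submodule.span ℂ (Set.range f) = ⊤

private theorem exists_good : ∃ r, Good V ρ r := by
  classical
  haveI := Fintype.ofFinite G
  let e := finBasis ℂ W
  let E := Fintype.equivFin (G × Fin (finrank ℂ W))
  refine ⟨_, fun i => ρ (E.symm i).1 (e (E.symm i).2), ?_, ?_⟩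
  · intro g j
    let j' : G × Fin (finrank ℂ W) := (g * (E.symm j).1, (E.symm j).2)
    refine ⟨Pi.single (E j') 1, ?_, ?_⟩
    · intro i
      by_cases hi : i = E j'
      · subst hi
        simp [V.one_mem]
      · simp [Pi.single_eq_of_ne hi, V.zero_mem]
    · rw [Finset.sum_eq_single (E j')]
      · simp [j', map_mul]
      · intro b _ hb
        simp [Pi.single_eq_of_ne hb]
      · simp
  · rw [eq_top_iff, ← e.span_eq, Submodule.span_le]
    rintro _ ⟨i, rfl⟩
    apply Submodule.subset_span
    refine ⟨E (1, i), ?_⟩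
    simp

private theorem good_of_dep {r' : ℕ} (f : Fin (r' + 1) → W)
    (hst : ∀ (g : G) (j : Fin (r' + 1)), ∃ c : Fin (r' + 1) → ℂ, (∀ i, c i ∈ V) ∧
      ρ g (f j) = ∑ i, c i • f i)
    (hsp : Submodule.span ℂ (Set.range f) = ⊤) (hdep : ¬ LinearIndependent ℂ f) :
    Good V ρ r' := by
  classical
  rw [Fintype.not_linearIndependent_iff] at hdep
  obtain ⟨c, hc, hne⟩ := hdep
  obtain ⟨k, hk0, hk⟩ := exists_max_val V c hne
  let d : Fin (r' + 1) → ℂ := fun i => c i / c k
  have hd : ∀ i, d i ∈ V := hk
  have hdk : d k = 1 := div_self hk0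
  have hsum : ∑ i, d i • f i = 0 := by
    have h1 : ∑ i, d i • f i = (c k)⁻¹ • ∑ i, c i • f i := by
      rw [Finset.smul_sum]
      refine Finset.sum_congr rfl fun i _ => ?_
      rw [smul_smul]
      change (c i / c k) • f i = _
      rw [div_eq_inv_mul]
    rw [h1, hc, smul_zero]
  rw [Fin.sum_univ_succAbove _ k, hdk, one_smul] at hsum
  have hfk : f k = - ∑ j, d (k.succAbove j) • f (k.succAbove j) :=
    eq_neg_of_add_eq_zero_left hsum
  refine ⟨fun j => f (k.succAbove j), ?_, ?_⟩
  · intro g j
    obtain ⟨a, ha, hga⟩ := hst g (k.succAbove j)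
    refine ⟨fun i => a (k.succAbove i) - a k * d (k.succAbove i), ?_, ?_⟩
    · intro i
      exact V.sub_mem (ha _) (V.mul_mem _ _ (ha _) (hd _))
    · rw [hga, Fin.sum_univ_succAbove _ k, hfk, smul_neg, Finset.smul_sum, neg_add_eq_sub,
        ← Finset.sum_sub_distrib]
      refine Finset.sum_congr rfl fun i _ => ?_
      rw [sub_smul, mul_smul]
  · rw [eq_top_iff, ← hsp, Submodule.span_le]
    rintro _ ⟨i, rfl⟩
    rcases Fin.eq_self_or_eq_succAbove k i with h | ⟨j, h⟩
    · rw [h, hfk]
      apply Submodule.neg_mem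
      apply Submodule.sum_mem
      intro j _
      exact Submodule.smul_mem _ _ (Submodule.subset_span ⟨j, rfl⟩)
    · rw [h]
      exact Submodule.subset_span ⟨j, rfl⟩

/-- Every complex representation of a finite group has a basis in which the matrix entries lie in
a given valuation subring. -/
theorem exists_integral_basis : ∃ (n : ℕ) (b : Basis (Fin n) ℂ W),
    ∀ (g : G) (i j : Fin n), b.repr (ρ g (b j)) i ∈ V := by
  classical
  have hex := exists_good V ρ
  obtain ⟨r, hgood, hmin⟩ : ∃ r, Good V ρ r ∧ ∀ m < r, ¬ Good V ρ m :=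
    ⟨Nat.find hex, Nat.find_spec hex, fun m hm => Nat.find_min hex hm⟩
  obtain ⟨f, hst, hsp⟩ := hgood
  have hli : LinearIndependent ℂ f := by
    by_contra hnot
    cases r with
    | zero => exact hnot (linearIndependent_empty_type)
    | succ r' => exact hmin r' (Nat.lt_succ_self r') (good_of_dep V ρ f hst hsp hnot)
  let b : Basis (Fin r) ℂ W := Basis.mk hli (by rw [hsp])
  refine ⟨r, b, ?_⟩
  intro g i j
  obtain ⟨c, hc, hgc⟩ := hst g j
  have hbj : b j = f j := Basis.mk_apply hli _ j
  have h1 : ρ g (b j) = ∑ i, c i • b i := by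
    rw [hbj, hgc]
    refine Finset.sum_congr rfl fun i _ => ?_
    rw [Basis.mk_apply hli]
  rw [h1, Basis.repr_sum_self]
  exact hc i

end Basis

section Indep

variable {P : Type*} [Group P] [Fintype P] {p : ℕ} [Fact p.Prime]

/-- If the trace of `w` over the `p`-group `P` is primitive, then the `P`-translates of `w` are
linearly independent. -/
theorem indep_of_trace (hpV : (p : ℂ) ∈ V.nonunits) (hP : IsPGroup p P) {n : ℕ}
    (τ : P → Matrix (Fin n) (Fin n) V) (h1 : τ 1 = 1) (hm : ∀ a b, τ (a * b) = τ a * τ b)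
    (w : Fin n → V) (i₀ : Fin n) (hu : IsUnit ((∑ h, (τ h).mulVec w) i₀)) :
    LinearIndependent ℂ (fun h : P => fun i => (((τ h).mulVec w i : V) : ℂ)) := by
  classical
  let k := IsLocalRing.ResidueField V
  let res : V →+* k := IsLocalRing.residue V
  haveI hchar : CharP k p := by
    rw [CharP.charP_iff_prime_eq_zero (Fact.out : p.Prime)]
    obtain ⟨h2, h3⟩ := ValuationSubring.mem_nonunits_iff_exists_mem_maximalIdeal.mp hpV
    have h4 : ((p : ℕ) : V) = ⟨(p : ℂ), h2⟩ := by
      apply Subtype.ext
      simp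
    have h5 : res ((p : ℕ) : V) = 0 := by
      rw [h4]
      exact (IsLocalRing.residue_eq_zero_iff _).mpr h3
    rw [map_natCast] at h5
    exact h5
  let T : P → Matrix (Fin n) (Fin n) k := fun h => (τ h).map res
  have hT1 : T 1 = 1 := by
    change (τ 1).map res = 1
    rw [h1, Matrix.map_one _ (map_zero res) (map_one res)]
  have hTm : ∀ a b, T (a * b) = T a * T b := by
    intro a b
    change (τ (a * b)).map res = _
    rw [hm, Matrix.map_mul]
  let wb : Fin n → k := res ∘ w
  let W : P → Fin n → k := fun h => (T h).mulVec wb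
  have hW : ∀ h i, W h i = res ((τ h).mulVec w i) := by
    intro h i
    exact (RingHom.map_mulVec res (τ h) w i).symm
  have hsum : (∑ h, W h) i₀ ≠ 0 := by
    have h2 : (∑ h, W h) i₀ = res ((∑ h, (τ h).mulVec w) i₀) := by
      rw [Finset.sum_apply, Finset.sum_apply, map_sum]
      exact Finset.sum_congr rfl fun h _ => hW h i₀
    rw [h2]
    exact (hu.map res).ne_zero
  -- the key: the reduction mod the maximal ideal is injective
  let Ψ : (P → k) →ₗ[k] (Fin n → k) :=
    { toFun := fun a => ∑ h, a h • W h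
      map_add' := by
        intro a b
        simp [add_smul, Finset.sum_add_distrib]
      map_smul' := by
        intro c a
        simp [Finset.smul_sum, smul_smul] }
  let ρP : Representation k P (P → k) :=
    { toFun := fun h =>
        { toFun := fun a x => a (h⁻¹ * x)
          map_add' := by intro a b; rfl
          map_smul' := by intro c a; rfl }
      map_one' := by
        ext a x
        simp
      map_mul' := by
        intro a b
        ext c x
        simp [mul_assoc] }
  have hρP : ∀ h a x, ρP h a x = a (h⁻¹ * x) := fun _ _ _ => rfl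
  have hinj : ∀ a : P → k, Ψ a = 0 → a = 0 := by
    intro a ha
    by_contra hne
    have hinv : ∀ (g : P), ∀ v ∈ LinearMap.ker Ψ, ρP g v ∈ LinearMap.ker Ψ := by
      intro g v hv
      rw [LinearMap.mem_ker] at hv ⊢
      have h3 : Ψ (ρP g v) = (T g).mulVec (Ψ v) := by
        change ∑ h, (ρP g v) h • W h = (T g).mulVec (∑ h, v h • W h)
        have h4 : ∑ h, (ρP g v) h • W h = ∑ h, (ρP g v) (g * h) • W (g * h) :=
          (Equiv.sum_comp (Equiv.mulLeft g) (fun h => (ρP g v) h • W h)).symm
        rw [h4, Matrix.mulVec_sum]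
        refine Finset.sum_congr rfl fun h _ => ?_
        rw [hρP, inv_mul_cancel_left, Matrix.mulVec_smul]
        congr 1
        change (T (g * h)).mulVec wb = (T g).mulVec ((T h).mulVec wb)
        rw [hTm, Matrix.mulVec_mulVec]
      rw [h3, hv, Matrix.mulVec_zero]
    obtain ⟨u, hu1, hu0, hufix⟩ := Cfsg.Agent.Lib.PermMod.Basic.exists_fixed_vector (K := k) (p := p)
      hP ρP (LinearMap.ker Ψ) hinv (LinearMap.mem_ker.mpr ha) hne
    have hconst : ∀ x, u x = u 1 := by
      intro x
      have h5 := congrFun (hufix x⁻¹) 1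
      rw [hρP] at h5
      simpa using h5
    have hu10 : u 1 ≠ 0 := by
      intro h0
      apply hu0
      ext x
      rw [hconst, h0]
      rfl
    rw [LinearMap.mem_ker] at hu1
    have h6 : Ψ u = u 1 • ∑ h, W h := by
      change ∑ h, u h • W h = _
      rw [Finset.smul_sum]
      exact Finset.sum_congr rfl fun h _ => by rw [hconst]
    rw [h6] at hu1
    have h7 := (smul_eq_zero.mp hu1).resolve_left hu10
    exact hsum (by rw [h7]; rfl)
  rw [Fintype.linearIndependent_iff]
  intro a ha
  by_contra hnot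
  push Not at hnot
  obtain ⟨k₀, hk0, hk⟩ := exists_max_val V a hnot
  let bV : P → V := fun h => ⟨a h / a k₀, hk h⟩
  have hbV : ∀ i, ∑ h, bV h * (τ h).mulVec w i = 0 := by
    intro i
    apply Subtype.ext
    have h2 := congrFun ha i
    rw [Finset.sum_apply] at h2
    have h3 : ((∑ h, bV h * (τ h).mulVec w i : V) : ℂ) =
        (a k₀)⁻¹ * ∑ h, a h * (((τ h).mulVec w i : V) : ℂ) := by
      rw [Finset.mul_sum]
      push_cast
      refine Finset.sum_congr rfl fun h _ => ?_
      change a h / a k₀ * _ = _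
      rw [div_eq_inv_mul, mul_assoc]
    rw [h3]
    have h4 : ∑ h, a h * (((τ h).mulVec w i : V) : ℂ) = 0 := h2
    rw [h4, mul_zero]
    rfl
  have h8 : (res ∘ bV) = 0 := by
    apply hinj
    ext i
    change (∑ h, (res (bV h)) • W h) i = 0
    rw [Finset.sum_apply]
    have h3 := congrArg res (hbV i)
    rw [map_sum, map_zero] at h3
    rw [← h3]
    refine Finset.sum_congr rfl fun h _ => ?_
    rw [map_mul, ← hW]
    rfl
  have h9 : res (bV k₀) = 0 := congrFun h8 k₀
  have h10 : bV k₀ = 1 := by
    apply Subtype.ext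
    change a k₀ / a k₀ = 1
    exact div_self hk0
  rw [h10, map_one] at h9
  exact one_ne_zero h9

end Indep

end Cfsg.Agent.Lib.ModTI.Integral
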